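import Groth.Agent.FSchExist.Algebraize
import Groth.Agent.FSchCoh.Compare
import Groth.Agent.FSchCoh.Vanish
import Groth.Agent.W7Rees.Push

/-!
The completion of a coherent module, seen on the scheme, is the limit of its quotients.
-/

universe u

open CategoryTheory CategoryTheory.Limits AlgebraicGeometry TopologicalSpace Opposite
open Groth.Agent.FSchCoh
open Groth.Agent.SiteCoh

set_option autoImplicit false
set_option maxHeartbeats 1000000
set_option backward.isDefEq.respectTransparency false
set_option backward.isDefEq.respectTransparency.types false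
set_option linter.style.haveILetI false

noncomputable section

namespace Groth.Agent.FSchFF

variable {X : Scheme.{u}} [IsLocallyNoetherian X] (𝓘 : X.IdealSheafData) (hX : (FSch.completionAlong X 𝓘).IsFormal)

local notation "𝔛" => FSch.completionAlong X 𝓘
local notation "jj" => FSch.completionToX X 𝓘
local notation "iM" => FSch.toSchemeMor (FSch.completionAlong X 𝓘) hX (FSch.completionToX X 𝓘) (completion_hg 𝓘)

variable {𝓘} {A : Type u} [CommRing A] [X.Over (Spec (CommRingCat.of A))] (I : Ideal A)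
  (hI : ∀ V : X.affineOpens, 𝓘.ideal V = I.map (W7Cech.secRing A V.1))

include hI in
theorem nonempty_push_iso (F : X.Modules) (hF : Coh.IsCoh F) :
    Nonempty ((iM).push.obj ((iM).pull.obj F) ≅ limit (Formal.completion I F)) := by
  let g := jj
  have hg := completion_hg 𝓘
  choose α hα using fun k => FSchExist.exists_iso_modPow_pow (jj k) I (k + 1) (FSchExist.ker_completionToX I hI k) F
  let G := gMod 𝔛 jj hg F
  let c : ∀ k, F ⟶ (iM).push.obj ((FSch.levelMor 𝔛 hX k).push.obj (G.F k)) := fun k =>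
    (Scheme.Modules.pullbackPushforwardAdjunction (jj k)).unit.app F ≫ (FSch.schPushCompare 𝔛 hX jj hg k).app _
  let ψ : ∀ k, Formal.modPow I (k + 1) F ≅ (iM).push.obj ((FSch.levelMor 𝔛 hX k).push.obj (G.F k)) := fun k =>
    α k ≪≫ (spcIso 𝔛 hX jj hg k).app _
  have hψ : ∀ k, Formal.modPowπ I (k + 1) F ≫ (ψ k).hom = c k := fun k =>
    (Category.assoc _ _ _).symm.trans (congrArg (· ≫ ((spcIso 𝔛 hX jj hg k).app _).hom) (hα k))
  have hc : ∀ k, c k = c (k + 1) ≫ (iM).push.map ((FSch.levelMor 𝔛 hX (k + 1)).push.map (G.toPush k) ≫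
      (FSch.pushCompare 𝔛 hX k).app _) := fun k => by
    have h := congrArg ((iM).adj.homEquiv F _) (cmpK_trans 𝔛 hX jj hg F k)
    rw [cmpK, cmpK, Equiv.apply_symm_apply, Adjunction.homEquiv_naturality_right, Equiv.apply_symm_apply] at h
    exact h
  haveI : (iM).push.IsRightAdjoint := (iM).adj.isRightAdjoint
  let η : Formal.completion I F ⟶ FSch.levelSysOf 𝔛 hX G.F G.toPush ⋙ (iM).push :=
    NatTrans.ofOpSequence (fun k => (ψ k).hom) fun k => by
      rw [← cancel_epi (Formal.modPowπ I (k + 1 + 1) F), Functor.comp_map, FSch.levelSysOf_map_succ]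
      refine ((Category.assoc _ _ _).symm.trans ?_).trans (((congrArg (· ≫ _) (hψ (k + 1))).trans (hc k).symm).symm.trans
        (Category.assoc _ _ _))
      rw [show (Formal.completion I F).map (homOfLE (Nat.le_add_right k 1)).op = Formal.modPowTrans I (k + 1) F from
        Functor.ofOpSequence_map_homOfLE_succ _ k]
      exact (congrArg (· ≫ (ψ k).hom) (Formal.modPowπ_trans I (k + 1) F)).trans (hψ k)
  haveI := isIso_cmpG 𝔛 jj hg F (FSchExist.hL 𝓘) hF
  exact ⟨(iM).push.mapIso (asIso (cmpG 𝔛 hX jj hg F)) ≪≫ preservesLimitIso (iM).push (FSch.levelSysOf 𝔛 hX G.F G.toPush) ≪≫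
    (HasLimit.isoOfNatIso (NatIso.ofComponents (fun j => ψ j.unop) fun {i j} f => η.naturality f)).symm⟩

omit [X.Over (Spec (CommRingCat.of A))] in
theorem isCohF_pull (F : X.Modules) (hF : Coh.IsCoh F) : FSch.IsCohF 𝔛 hX ((iM).pull.obj F) := by
  have hFP : SheafOfModules.IsFinitePresentation (R := ModSite.ringSh X.sheaf) F := by
    haveI := hF.1
    exact QC.isFP_of_isQCoh_of_isFT hF.2
  exact @PullFlat.isFinitePresentation_pull _ _ _ _ _ _ _ _ (iM) F hFP

omit [X.Over (Spec (CommRingCat.of A))] in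
/-- The cohomology of a coherent module on the completion is that of its direct image. -/
theorem nonempty_hf_equiv (M : FSch.ModF 𝔛 hX) (hM : FSch.IsCohF 𝔛 hX M) (p : ℕ) :
    Nonempty (FSch.HF 𝔛 hX M p ≃+ Coh.HH X ((iM).push.obj M) p) := by
  have hd : DirectAcyclic (Opens.grothendieckTopology X) (Opens.map (jj 0).base) (ModSite.toAb M) :=
    fun m => CohQC.locKilled_of_basis (jj 0).base (ModSite.toAb M) (m + 1) {W | IsAffineOpen (X := X) W}
      (fun V y hy => CohQC.exists_affine_le V y hy)
      (fun W hW => coh_acyclic 𝔛 hX (FSchExist.hL 𝓘) M hM (hW.preimage (jj 0)) m)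
  obtain ⟨a, -⟩ := W7Rees.h_push_natural_hom (jj 0).base p
  exact ⟨a (ModSite.toAb M) hd⟩

end Groth.Agent.FSchFF
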