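import Groth.Agent.S0827
import Groth.Agent.W7Rees.Main
import Groth.Agent.W7Rees.HomFull
import Groth.Agent.W7Exist.Completion
import Groth.Agent.LimBasis.Main

/-!
The cohomology of the limit of the quotients `F/I^nF` on a proper scheme.
-/

set_option autoImplicit false
set_option backward.isDefEq.respectTransparency false
set_option backward.isDefEq.respectTransparency.types false
set_option linter.style.haveILetI false
set_option maxHeartbeats 1000000

universe u

open CategoryTheory CategoryTheory.Limits AlgebraicGeometry TopologicalSpace Opposite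

noncomputable section

namespace Groth.Agent.FSchFF

open Groth.Agent.W7Rees (hm hm_comp π_completion_map)

variable {A : Type u} [CommRing A] {X : Scheme.{u}} [X.Over (Spec (CommRingCat.of A))] (I : Ideal A) {F : X.Modules}

theorem hm_id {M : X.Modules} (p : ℕ) (x : Coh.HH X M p) : hm (𝟙 M) p x = x :=
  (congrArg (fun φ => Sheaf.H.map φ p x) (CategoryTheory.Functor.map_id _ _)).trans (Sheaf.H.map_id_apply _)

/-- Isomorphic modules have the same cohomology. -/
def hmEquiv {M N : X.Modules} (e : M ≅ N) (p : ℕ) : Coh.HH X M p ≃+ Coh.HH X N p where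
  toFun := hm e.hom p
  invFun := hm e.inv p
  left_inv x := by rw [← hm_comp, e.hom_inv_id, hm_id]
  right_inv x := by rw [← hm_comp, e.inv_hom_id, hm_id]
  map_add' := map_add _

variable [IsNoetherianRing A] [IsProper (X ↘ Spec (CommRingCat.of A))]

theorem subsingleton_limOne (hF : Coh.IsCoh F) (p : ℕ) :
    Subsingleton (Formal2.limOne (fun n => Coh.HH X ((Formal.completion I F).obj (op n)) p)
      (Formal2.HHsysMap (Formal.completion I F) p)) := by
  let G := Formal.completion I F
  refine LimMilnor.limOne_eq_zero_of_ml (G := fun n => Coh.HH X (G.obj (op n)) p) _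
    (fun n d => hm (G.map (homOfLE (Nat.le_add_right n d)).op) p) (fun n x => ?_) (fun n d x => ?_) fun n => ?_
  · show hm (G.map (homOfLE (le_refl n)).op) p x = x
    rw [show (homOfLE (le_refl n)).op = 𝟙 (op n) from rfl, CategoryTheory.Functor.map_id]
    exact hm_id p x
  · show hm _ p x = hm _ p (hm _ p x)
    rw [← hm_comp, ← G.map_comp]
    rfl
  · obtain ⟨c, hc⟩ := W7Rees.exists_range_subset I hF p
    refine ⟨c, fun e _ => ?_⟩
    rintro _ ⟨x, rfl⟩
    obtain ⟨y, hy⟩ := hc (n + 1) (n + c + 1) (by omega) _ (π_completion_map I n (n + c) (Nat.le_add_right n c))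
      ⟨x, rfl⟩
    exact ⟨hm (Formal.modPowπ I (n + e + 1) F) p y,
      (hm_comp _ _ p y).symm.trans
        ((congrArg (fun φ => hm φ p y) (π_completion_map I n (n + e) (Nat.le_add_right n e))).trans hy)⟩

omit [IsNoetherianRing A] [IsProper (X ↘ Spec (CommRingCat.of A))] in
theorem mem_limZero_iff {G : ℕ → Type u} [∀ n, AddCommGroup (G n)] {t : ∀ n, G (n + 1) →+ G n} {y : ∀ n, G n} :
    y ∈ Formal2.limZero G t ↔ ∀ n, t n (y (n + 1)) = y n :=
  ⟨fun h n => (sub_eq_zero.1 (congrFun h n)).symm, fun h => funext fun n => sub_eq_zero.2 (h n).symm⟩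

omit [IsNoetherianRing A] [IsProper (X ↘ Spec (CommRingCat.of A))] in
/-- The map to the compatible families. -/
def theta (G : ℕᵒᵖ ⥤ X.Modules) (p : ℕ) :
    Coh.HH X (limit G) p →+ Formal2.limZero (fun n => Coh.HH X (G.obj (op n)) p) (Formal2.HHsysMap G p) :=
  AddMonoidHom.mk' (fun x => ⟨fun n => hm (limit.π G (op n)) p x, mem_limZero_iff.2 fun n =>
    (hm_comp (limit.π G (op (n + 1))) (G.map (homOfLE (Nat.le_succ n)).op) p x).symm.trans
      (congrArg (fun φ => hm φ p x) (limit.w G (homOfLE (Nat.le_succ n)).op))⟩)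
    fun a b => Subtype.ext (funext fun n => map_add _ a b)

omit [IsNoetherianRing A] [IsProper (X ↘ Spec (CommRingCat.of A))] in
theorem theta_apply (G : ℕᵒᵖ ⥤ X.Modules) (p : ℕ) (x : Coh.HH X (limit G) p) (n : ℕ) :
    (theta G p x : ∀ n, Coh.HH X (G.obj (op n)) p) n = hm (limit.π G (op n)) p x := rfl

omit [IsNoetherianRing A] [IsProper (X ↘ Spec (CommRingCat.of A))] in
theorem bijective_theta_zero (G : ℕᵒᵖ ⥤ X.Modules) : Function.Bijective (theta G 0) := by
  obtain ⟨e, he⟩ := W7Rees.exists_zero_natural (X := X)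
  refine ⟨fun a b hab => (e _).injective (LimBasis.limit_sections_ext (F := G) (⊤ : Opens X) fun n => ?_), fun y => ?_⟩
  · have h := congrFun (congrArg Subtype.val hab) n
    exact (he (limit G) (G.obj (op n)) (limit.π G (op n)) a).symm.trans
      ((congrArg (e (G.obj (op n))) h).trans (he (limit G) (G.obj (op n)) (limit.π G (op n)) b))
  · obtain ⟨z, hz⟩ := LimBasis.exists_limit_section (F := G) (⊤ : Opens X)
      (fun n => e (G.obj (op n)) ((y : ∀ n, Coh.HH X (G.obj (op n)) 0) n)) fun n =>
        (he (G.obj (op (n + 1))) (G.obj (op n)) (G.map (homOfLE (Nat.le_succ n)).op) _).symm.trans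
          (congrArg (e (G.obj (op n))) (mem_limZero_iff.1 y.2 n))
    refine ⟨(e (limit G)).symm z, Subtype.ext (funext fun n => (e (G.obj (op n))).injective ?_)⟩
    refine (he (limit G) (G.obj (op n)) (limit.π G (op n)) _).trans ?_
    exact (congrArg ((limit.π G (op n)).app ⊤) ((e (limit G)).apply_symm_apply z)).trans (hz n)

omit [IsNoetherianRing A] [IsProper (X ↘ Spec (CommRingCat.of A))] in
theorem bijective_theta_succ (G : ℕᵒᵖ ⥤ X.Modules) (hG : Formal2.IsQCohFormal I G) (p : ℕ)
    [Subsingleton (Formal2.limOne (fun n => Coh.HH X (G.obj (op n)) p) (Formal2.HHsysMap G p))] :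
    Function.Bijective (theta G (p + 1)) := by
  obtain ⟨α, β, -, hβ, hαβ, hπ⟩ := S0827.result A I X G hG p
  have he : theta G (p + 1) = β := AddMonoidHom.ext fun x => Subtype.ext (funext fun n => (hπ x n).symm)
  have hinj : Function.Injective β := (injective_iff_map_eq_zero β).2 fun x hx => by
    obtain ⟨z, rfl⟩ : x ∈ α.range := hαβ ▸ hx
    rw [Subsingleton.elim z 0, map_zero]
  rw [he]
  exact ⟨hinj, hβ⟩

theorem nonempty_limit_equiv (hF : Coh.IsCoh F) (p : ℕ) :
    Nonempty (Coh.HH X (limit (Formal.completion I F)) p ≃+ Formal.HHlim I F p) := by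
  have hmap : ∀ (n : ℕ) (z : Coh.HH X ((Formal.completion I F).obj (op (n + 1))) p),
      Formal2.HHsysMap (Formal.completion I F) p n z = Formal.HHmodPowTrans I F p n z := fun n z =>
    congrArg (fun φ => hm φ p z) (W7Exist.completion_map_succ I F n)
  have hΘ : Function.Bijective (theta (Formal.completion I F) p) := by
    cases p with
    | zero => exact bijective_theta_zero _
    | succ p =>
      haveI := subsingleton_limOne I hF p
      exact bijective_theta_succ I _ ⟨fun n => ((W7Exist.isCohFormal_completion I hF).1 n).1,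
        (W7Exist.isCohFormal_completion I hF).2.1, (W7Exist.isCohFormal_completion I hF).2.2⟩ p
  exact ⟨(AddEquiv.ofBijective _ hΘ).trans
    { toFun := fun y => ⟨y.1, fun n => (hmap n _).symm.trans (mem_limZero_iff.1 y.2 n)⟩
      invFun := fun y => ⟨y.1, mem_limZero_iff.2 fun n => (hmap n _).trans (y.2 n)⟩
      left_inv := fun _ => rfl
      right_inv := fun _ => rfl
      map_add' := fun _ _ => rfl }⟩

end Groth.Agent.FSchFF
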